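import Mathlib
import Cfsg.Prelude.Def_EvenType
import Cfsg.Agent.Lib.Cores
import Cfsg.Agent.S0033
set_option linter.all false

/-!
# The `p'`-core of the centralizer of an automorphism of order `p` of a simple group (helper197)

* `core_eq_bot` : `K` with trivial centre, `β ∈ 𝒢 ≤ Aut(K)` of prime order `p`, `Inn(K) ≤ 𝒢`, `L ≤ C_K(β)` normalised by
  `C_K(β)`, `O_{p'}(L) = 1`, and every automorphism of order prime to `p` commuting with `β` and trivial on `L` is trivial:
  then `O_{p'}(C_𝒢(β)) = 1`;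
* `core_ne_bot` : `K` non-abelian simple, `p` does not divide `|C_K(β)|`: then `O_{p'}(C_𝒢(β)) ≠ 1`.
-/

set_option autoImplicit false
set_option linter.unusedSectionVars false

namespace Cfsg.Agent.H197.Abs

open Subgroup Cfsg
open scoped commutatorElement

variable {K : Type*} [Group K]

theorem conj_apply_eq (g : MulAut K) (k : K) : g * MulAut.conj k * g⁻¹ = MulAut.conj (g k) := by
  apply MulEquiv.ext
  intro x
  change g (k * (g.symm x) * k⁻¹) = g k * x * (g k)⁻¹
  rw [map_mul, map_mul, g.apply_symm_apply, map_inv]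

theorem conj_injective (hZ : center K = ⊥) {k : K} (h : MulAut.conj k = 1) : k = 1 := by
  have h1 : k ∈ center K := by
    rw [mem_center_iff]
    intro g
    have h2 : k * g * k⁻¹ = g := congrArg (fun f : MulAut K => f g) h
    exact (mul_inv_eq_iff_eq_mul.1 h2).symm
  rwa [hZ, mem_bot] at h1

theorem core_eq_bot [Finite K] (hZ : center K = ⊥) (𝒢 : Subgroup (MulAut K)) (hinn : ∀ k : K, MulAut.conj k ∈ 𝒢)
    {p : ℕ} {β : MulAut K} (L : Subgroup K) (hL : ∀ l ∈ L, β l = l)
    (hN : ∀ k : K, β k = k → ∀ l ∈ L, k * l * k⁻¹ ∈ L) (hA : pPrimeCore p ↥L = ⊥)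
    (hB : ∀ γ : MulAut K, γ * β = β * γ → (∀ l ∈ L, γ l = l) → (orderOf γ).Coprime p → γ = 1) :
    pPrimeCore p ↥(𝒢 ⊓ centralizer {β}) = ⊥ := by
  rw [eq_bot_iff]
  refine sSup_le ?_
  rintro N ⟨hNn, hNc⟩
  -- membership in `C`
  have hCmem : ∀ {g : MulAut K}, g ∈ 𝒢 ⊓ centralizer {β} ↔ g ∈ 𝒢 ∧ β * g = g * β := by
    intro g
    rw [mem_inf, mem_centralizer_singleton_iff]
    constructor
    · rintro ⟨h1, h2⟩; exact ⟨h1, h2.symm⟩
    · rintro ⟨h1, h2⟩; exact ⟨h1, h2.symm⟩
  have hcj : ∀ k : K, β k = k → MulAut.conj k ∈ 𝒢 ⊓ centralizer {β} := by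
    intro k hk
    refine hCmem.2 ⟨hinn k, ?_⟩
    have h1 := conj_apply_eq β k
    rw [hk] at h1
    rw [← mul_inv_eq_iff_eq_mul]
    exact h1
  have hcop : ∀ x ∈ N, (orderOf (x : MulAut K)).Coprime p := by
    intro x hx
    rw [Subgroup.orderOf_coe]
    have h1 : orderOf (⟨x, hx⟩ : ↥N) ∣ Nat.card ↥N := orderOf_dvd_natCard _
    rw [Subgroup.orderOf_mk] at h1
    exact Nat.Coprime.coprime_dvd_left h1 hNc
  -- step 1
  have s1 : ∀ l ∈ L, ∀ (h : MulAut.conj l ∈ 𝒢 ⊓ centralizer {β}), (⟨MulAut.conj l, h⟩ : ↥(𝒢 ⊓ centralizer {β})) ∈ N →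
      l = 1 := by
    intro l hl h hlN
    let N' : Subgroup ↥L :=
      { carrier := {x | ∀ (h : MulAut.conj (x : K) ∈ 𝒢 ⊓ centralizer {β}),
            (⟨MulAut.conj (x : K), h⟩ : ↥(𝒢 ⊓ centralizer {β})) ∈ N}
        one_mem' := by
          intro h
          have : (⟨MulAut.conj ((1 : ↥L) : K), h⟩ : ↥(𝒢 ⊓ centralizer {β})) = 1 := by
            apply Subtype.ext
            change MulAut.conj (1 : K) = 1
            rw [map_one]
          rw [this]
          exact N.one_mem
        mul_mem' := by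
          intro x y hx hy h
          have h1 := hx (hcj x (hL x x.2))
          have h2 := hy (hcj y (hL y y.2))
          have h3 := N.mul_mem h1 h2
          convert h3 using 1
          apply Subtype.ext
          change MulAut.conj ((x : K) * (y : K)) = _
          rw [map_mul]
          rfl
        inv_mem' := by
          intro x hx h
          have h1 := N.inv_mem (hx (hcj x (hL x x.2)))
          convert h1 using 1
          apply Subtype.ext
          change MulAut.conj ((x : K)⁻¹) = _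
          rw [map_inv]
          rfl }
    have hn : N'.Normal := by
      constructor
      intro x hx g h
      have h1 := hNn.conj_mem _ (hx (hcj x (hL x x.2))) ⟨MulAut.conj (g : K), hcj g (hL g g.2)⟩
      convert h1 using 1
      apply Subtype.ext
      change MulAut.conj ((g : K) * (x : K) * (g : K)⁻¹) = _
      rw [map_mul, map_mul, map_inv]
      rfl
    have hc : (Nat.card ↥N').Coprime p := by
      let f : ↥N' →* ↥N :=
        { toFun := fun x => ⟨⟨MulAut.conj ((x : ↥L) : K), hcj _ (hL _ (x : ↥L).2)⟩, x.2 _⟩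
          map_one' := by
            apply Subtype.ext
            apply Subtype.ext
            change MulAut.conj (1 : K) = 1
            rw [map_one]
          map_mul' := by
            intro x y
            apply Subtype.ext
            apply Subtype.ext
            change MulAut.conj (((x : ↥L) : K) * ((y : ↥L) : K)) = _
            rw [map_mul]
            rfl }
      have hf : Function.Injective f := by
        rw [injective_iff_map_eq_one]
        intro x hx
        have h1 : MulAut.conj ((x : ↥L) : K) = 1 := congrArg (fun y : ↥N => ((y : ↥(𝒢 ⊓ centralizer {β})) : MulAut K)) hx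
        apply Subtype.ext
        apply Subtype.ext
        exact conj_injective hZ h1
      exact Nat.Coprime.coprime_dvd_left (Subgroup.card_dvd_of_injective f hf) hNc
    have h1 : N' ≤ pPrimeCore p ↥L := le_sSup ⟨hn, hc⟩
    rw [hA] at h1
    have h2 : (⟨l, hl⟩ : ↥L) ∈ N' := fun _ => hlN
    have h3 := h1 h2
    rw [mem_bot] at h3
    exact congrArg Subtype.val h3
  -- step 2
  have s2 : ∀ k : K, β k = k → ∀ (h : MulAut.conj k ∈ 𝒢 ⊓ centralizer {β}),
      (⟨MulAut.conj k, h⟩ : ↥(𝒢 ⊓ centralizer {β})) ∈ N → k = 1 := by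
    intro k hk h hkN
    have h1 : ∀ l ∈ L, MulAut.conj k l = l := by
      intro l hl
      have h2 : k * l * k⁻¹ * l⁻¹ ∈ L := L.mul_mem (hN k hk l hl) (L.inv_mem hl)
      have h3 := s1 _ h2 (hcj _ (hL _ h2)) (by
        have h4 := N.mul_mem hkN (hNn.conj_mem _ (N.inv_mem hkN) ⟨MulAut.conj l, hcj l (hL l hl)⟩)
        convert h4 using 1
        apply Subtype.ext
        change MulAut.conj (k * l * k⁻¹ * l⁻¹) = MulAut.conj k * (MulAut.conj l * (MulAut.conj k)⁻¹ * (MulAut.conj l)⁻¹)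
        rw [map_mul, map_mul, map_mul, map_inv, map_inv]
        group)
      change k * l * k⁻¹ = l
      exact mul_inv_eq_one.1 h3
    have h2 := hcop _ hkN
    have h3 : MulAut.conj k * β = β * MulAut.conj k := (hCmem.1 h).2.symm
    exact conj_injective hZ (hB _ h3 h1 h2)
  -- step 3
  intro x hx
  rw [mem_bot]
  apply Subtype.ext
  obtain ⟨hx1, hx2⟩ := hCmem.1 x.2
  refine hB _ hx2.symm ?_ (hcop _ hx)
  intro l hl
  have hfix : β ((x : MulAut K) l * l⁻¹) = (x : MulAut K) l * l⁻¹ := by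
    have h1 : β ((x : MulAut K) l) = (x : MulAut K) (β l) := congrArg (fun f : MulAut K => f l) hx2
    rw [map_mul, map_inv, h1, hL l hl]
  have h2 := s2 _ hfix (hcj _ hfix) (by
    have h4 := N.mul_mem hx (hNn.conj_mem _ (N.inv_mem hx) ⟨MulAut.conj l, hcj l (hL l hl)⟩)
    convert h4 using 1
    apply Subtype.ext
    change MulAut.conj ((x : MulAut K) l * l⁻¹) =
      (x : MulAut K) * (MulAut.conj l * (x : MulAut K)⁻¹ * (MulAut.conj l)⁻¹)
    rw [map_mul, map_inv, ← conj_apply_eq]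
    group)
  exact mul_inv_eq_one.1 h2

/-- The hypotheses of `core_eq_bot`. -/
structure Hyp (p : ℕ) (β : MulAut K) (L : Subgroup K) : Prop where
  fix : ∀ l ∈ L, β l = l
  norm : ∀ k : K, β k = k → ∀ l ∈ L, k * l * k⁻¹ ∈ L
  core : pPrimeCore p ↥L = ⊥
  cent : ∀ γ : MulAut K, γ * β = β * γ → (∀ l ∈ L, γ l = l) → (orderOf γ).Coprime p → γ = 1

theorem Hyp.core_eq_bot [Finite K] {p : ℕ} {β : MulAut K} {L : Subgroup K} (h : Hyp p β L) (hZ : center K = ⊥)
    (𝒢 : Subgroup (MulAut K)) (hinn : ∀ k : K, MulAut.conj k ∈ 𝒢) :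
    pPrimeCore p ↥(𝒢 ⊓ centralizer {β}) = ⊥ :=
  Abs.core_eq_bot hZ 𝒢 hinn L h.fix h.norm h.core h.cent

theorem Hyp.conj {p : ℕ} {β : MulAut K} {L : Subgroup K} (h : Hyp p β L) (δ : MulAut K) :
    Hyp p (δ * β * δ⁻¹) (L.map δ.toMonoidHom) where
  fix := by
    rintro _ ⟨l, hl, rfl⟩
    change δ (β (δ.symm (δ l))) = δ l
    rw [δ.symm_apply_apply, h.fix l hl]
  norm := by
    rintro k hk _ ⟨l, hl, rfl⟩
    obtain ⟨k, rfl⟩ := δ.surjective k
    have hk' : β k = k := by
      apply δ.injective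
      change δ (β (δ.symm (δ k))) = δ k at hk
      rwa [δ.symm_apply_apply] at hk
    refine ⟨k * l * k⁻¹, h.norm k hk' l hl, ?_⟩
    change δ (k * l * k⁻¹) = δ k * δ l * (δ k)⁻¹
    rw [map_mul, map_mul, map_inv]
  core := by
    have e : ↥L ≃* ↥(L.map δ.toMonoidHom) := L.equivMapOfInjective δ.toMonoidHom δ.injective
    rw [← Cfsg.Agent.Lib.Cores.map_equiv_pPrimeCore e p, h.core, Subgroup.map_bot]
  cent := by
    intro γ hc hfix ho
    have h1 : δ⁻¹ * γ * δ = 1 := by
      refine h.cent _ ?_ ?_ ?_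
      · have h2 : γ * (δ * β * δ⁻¹) = (δ * β * δ⁻¹) * γ := hc
        calc δ⁻¹ * γ * δ * β = δ⁻¹ * (γ * (δ * β * δ⁻¹)) * δ := by group
          _ = δ⁻¹ * ((δ * β * δ⁻¹) * γ) * δ := by rw [h2]
          _ = β * (δ⁻¹ * γ * δ) := by group
      · intro l hl
        change δ.symm (γ (δ l)) = l
        rw [hfix (δ l) ⟨l, hl, rfl⟩, δ.symm_apply_apply]
      · have h3 : orderOf (δ⁻¹ * γ * δ) = orderOf γ := by
          have h4 : δ⁻¹ * γ * δ = MulAut.conj δ⁻¹ γ := by rw [MulAut.conj_apply, inv_inv]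
          rw [h4]
          exact orderOf_injective (MulAut.conj δ⁻¹).toMonoidHom (MulAut.conj δ⁻¹).injective γ
        rwa [h3]
    calc γ = δ * (δ⁻¹ * γ * δ) * δ⁻¹ := by group
      _ = 1 := by rw [h1, mul_one, mul_inv_cancel]

/-- The `p'`-core of a subgroup stable under an automorphism is stable. -/
theorem core_stable {p : ℕ} {L : Subgroup K} (δ : MulAut K) (h1 : ∀ l ∈ L, δ l ∈ L) (h2 : ∀ l ∈ L, δ.symm l ∈ L)
    {l : K} (hl : l ∈ L) (h : (⟨l, hl⟩ : ↥L) ∈ pPrimeCore p ↥L) : (⟨δ l, h1 l hl⟩ : ↥L) ∈ pPrimeCore p ↥L := by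
  let e : ↥L ≃* ↥L :=
    { toFun := fun x => ⟨δ x, h1 x x.2⟩
      invFun := fun x => ⟨δ.symm x, h2 x x.2⟩
      left_inv := fun x => Subtype.ext (δ.symm_apply_apply _)
      right_inv := fun x => Subtype.ext (δ.apply_symm_apply _)
      map_mul' := fun x y => Subtype.ext (map_mul δ _ _) }
  rw [← Cfsg.Agent.Lib.Cores.map_equiv_pPrimeCore e p]
  exact ⟨_, h, rfl⟩

/-- If `p` does not divide `|C_K(β)|` then the core is not trivial. -/
theorem core_ne_bot [Finite K] (hs : IsSimpleGroup K) (hna : ¬ IsMulCommutative K) (𝒢 : Subgroup (MulAut K))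
    (hinn : ∀ k : K, MulAut.conj k ∈ 𝒢) {p : ℕ} (hp : p.Prime) {β : MulAut K} (hord : orderOf β = p)
    (hc : Nat.Coprime p (Nat.card ↥(MonoidHom.eqLocus β.toMonoidHom (MonoidHom.id K)))) :
    pPrimeCore p ↥(𝒢 ⊓ centralizer {β}) ≠ ⊥ := by
  have hZ : center K = ⊥ := by
    rcases (inferInstance : (center K).Normal).eq_bot_or_eq_top with h1 | h1
    · exact h1
    · exfalso
      apply hna
      refine ⟨⟨fun a b => ?_⟩⟩
      have h2 : a ∈ center K := by rw [h1]; trivial
      exact (mem_center_iff.1 h2 b).symm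
  -- a nontrivial fixed point
  obtain ⟨k, hk, hk1⟩ : ∃ k : K, β k = k ∧ k ≠ 1 := by
    by_contra hcon
    push Not at hcon
    have h1 : Group.IsNilpotent K := Cfsg.Agent.S0033.result β (fun g hg => hcon g hg) p hp hord
    have h2 : Group.IsSolvable K := inferInstance
    apply hna
    exact ⟨⟨IsSimpleGroup.comm_iff_isSolvable.2 h2⟩⟩
  have hcj : ∀ k : K, β k = k → MulAut.conj k ∈ 𝒢 ⊓ centralizer {β} := by
    intro k hk
    rw [mem_inf, mem_centralizer_singleton_iff]
    refine ⟨hinn k, ?_⟩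
    have h1 := conj_apply_eq β k
    rw [hk] at h1
    rw [eq_comm, ← mul_inv_eq_iff_eq_mul]
    exact h1
  let f : ↥(MonoidHom.eqLocus β.toMonoidHom (MonoidHom.id K)) →* ↥(𝒢 ⊓ centralizer {β}) :=
    { toFun := fun x => ⟨MulAut.conj (x : K), hcj _ x.2⟩
      map_one' := by
        apply Subtype.ext
        change MulAut.conj (1 : K) = 1
        rw [map_one]
      map_mul' := by
        intro x y
        apply Subtype.ext
        change MulAut.conj ((x : K) * (y : K)) = _
        rw [map_mul]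
        rfl }
  have hle : f.range ≤ pPrimeCore p ↥(𝒢 ⊓ centralizer {β}) := by
    refine le_sSup ⟨?_, ?_⟩
    · constructor
      rintro _ ⟨x, rfl⟩ g
      have hg : β * (g : MulAut K) = (g : MulAut K) * β :=
        (mem_centralizer_singleton_iff.1 (mem_inf.1 g.2).2).symm
      have hx : β (x : K) = x := x.2
      refine ⟨⟨(g : MulAut K) (x : K), ?_⟩, ?_⟩
      · change β ((g : MulAut K) (x : K)) = (g : MulAut K) (x : K)
        have h1 : β ((g : MulAut K) (x : K)) = (g : MulAut K) (β x) := congrArg (fun f : MulAut K => f x) hg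
        rw [h1, hx]
      · apply Subtype.ext
        change MulAut.conj ((g : MulAut K) (x : K)) = (g : MulAut K) * MulAut.conj (x : K) * (g : MulAut K)⁻¹
        rw [conj_apply_eq]
    · exact Nat.Coprime.coprime_dvd_left (Subgroup.card_range_dvd f) hc.symm
  intro hbot
  rw [hbot] at hle
  have h1 : f ⟨k, hk⟩ ∈ (⊥ : Subgroup ↥(𝒢 ⊓ centralizer {β})) := hle ⟨_, rfl⟩
  rw [mem_bot] at h1
  have h2 : MulAut.conj k = 1 := congrArg Subtype.val h1
  exact hk1 (conj_injective hZ h2)

end Cfsg.Agent.H197.Abs
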